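import Cfsg.Agent.CosetEnum.Index
import Mathlib.GroupTheory.PresentedGroup

/-!
Order bounds by coset enumeration in a group whose generators need not be involutions: letter
`2i + 1` inverts letter `2i`.
-/

set_option autoImplicit false

namespace CfsgLib.LyG2

open CfsgLib.CosetEnum

/-- The inverse letter. -/
def iv (x : ℕ) : ℕ := bif Nat.beq (Nat.mod x 2) 0 then Nat.add x 1 else Nat.sub x 1

theorem iv_even (i : ℕ) : iv (2 * i) = 2 * i + 1 := by
  show (bif Nat.beq (2 * i % 2) 0 then 2 * i + 1 else 2 * i - 1) = _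
  simp

theorem iv_odd (i : ℕ) : iv (2 * i + 1) = 2 * i := by
  show (bif Nat.beq ((2 * i + 1) % 2) 0 then 2 * i + 1 + 1 else 2 * i + 1 - 1) = _
  simp [show Nat.beq 1 0 = false from rfl]

/-- The value of a letter. -/
def lv {G : Type*} [Group G] (v : ℕ → G) (x : ℕ) : G :=
  bif Nat.beq (Nat.mod x 2) 0 then v (x / 2) else (v (x / 2))⁻¹

theorem lv_eq {G : Type*} [Group G] (v : ℕ → G) (x : ℕ) :
    lv v x = if x % 2 = 0 then v (x / 2) else (v (x / 2))⁻¹ := by
  show (bif Nat.beq (x % 2) 0 then v (x / 2) else (v (x / 2))⁻¹) = _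
  rcases Nat.mod_two_eq_zero_or_one x with h | h <;> simp [h, show Nat.beq 1 0 = false from rfl]

theorem lv_iv {G : Type*} [Group G] (v : ℕ → G) (x : ℕ) : lv v (iv x) = (lv v x)⁻¹ := by
  rcases Nat.even_or_odd' x with ⟨i, rfl | rfl⟩
  · simp [iv_even, lv_eq, show (2 * i + 1) / 2 = i by omega]
  · simp [iv_odd, lv_eq, show (2 * i + 1) / 2 = i by omega]

theorem map_lv {G H : Type*} [Group G] [Group H] (f : G →* H) (v : ℕ → G) (x : ℕ) :
    f (lv v x) = lv (fun i => f (v i)) x := by
  unfold lv
  cases Nat.beq (Nat.mod x 2) 0 <;> simp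

variable {G : Type*} [Group G]

theorem finite_and_card_le {g : ℕ → G} {H : Subgroup G} {k n : ℕ} {tb : ℕ → ℕ} {cr : ℕ → G}
    [Finite H] {B d : ℕ} (hk : k ≤ 16) (hd : n ≤ 2 ^ d) (hn : 0 < n)
    (hiv : ∀ x, x < k → iv x < k ∧ g (iv x) = (g x)⁻¹) (h0 : cr 0 = 1)
    (hv : allR (validEntry n k tb iv) d 0 = true) (hfull : B = 2 ^ (n * k) - 1)
    (hInv : Inv g H k tb cr B) :
    Finite (Subgroup.closure (g '' {x | x < k})) ∧
      Nat.card (Subgroup.closure (g '' {x | x < k})) ≤ n * Nat.card H := by
  have hedge : ∀ i x, i < n → x < k → ∃ j, j < n ∧ cr i * g x * (cr j)⁻¹ ∈ H := by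
    intro i x hi hx
    refine ⟨T tb x i, ?_, hInv i x hx ?_⟩
    · have h1 := allR_spec d 0 hv i (Nat.zero_le _) (by omega)
      unfold validEntry at h1
      rw [show Nat.blt i n = true by simpa using hi] at h1
      simp only [cond_true] at h1
      have h2 := allR_spec 4 0 h1 x (Nat.zero_le _) (by show x < 0 + 2 ^ 4; omega)
      rw [show Nat.blt x k = true by simpa using hx] at h2
      simp only [cond_true, Bool.and_eq_true, Nat.blt_eq] at h2
      exact h2.1
    · rw [known, bit_eq, hfull, Nat.testBit_two_pow_sub_one]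
      simp only [decide_eq_true_eq]
      show i * k + x < n * k
      calc i * k + x < (i + 1) * k := by rw [add_mul, one_mul]; omega
        _ ≤ n * k := Nat.mul_le_mul_right k hi
  have claim : ∀ y ∈ Subgroup.closure (g '' {x | x < k}), ∀ i, i < n →
      ∃ j, j < n ∧ cr i * y * (cr j)⁻¹ ∈ H := by
    intro y hy
    induction hy using Subgroup.closure_induction'' with
    | mem y hy =>
      obtain ⟨x, hx, rfl⟩ := hy
      exact fun i hi => hedge i x hi hx
    | inv_mem y hy =>
      obtain ⟨x, hx, rfl⟩ := hy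
      rw [← (hiv x hx).2]
      exact fun i hi => hedge i _ hi (hiv x hx).1
    | one => exact fun i hi => ⟨i, hi, by simp [H.one_mem]⟩
    | mul y z _ _ h1 h2 =>
      intro i hi
      obtain ⟨j, hj, hyj⟩ := h1 i hi
      obtain ⟨l, hl, hzl⟩ := h2 j hj
      refine ⟨l, hl, ?_⟩
      have := H.mul_mem hyj hzl
      simpa [mul_assoc] using this
  let f : Fin n × H → G := fun p => (p.2 : G) * cr p.1
  have hsub : ((Subgroup.closure (g '' {x | x < k})) : Set G) ⊆ Set.range f := by
    intro y hy
    obtain ⟨j, hj, hyj⟩ := claim y hy 0 hn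
    rw [h0, one_mul] at hyj
    exact ⟨(⟨j, hj⟩, ⟨_, hyj⟩), inv_mul_cancel_right y (cr j)⟩
  refine ⟨((Set.finite_range f).subset hsub).to_subtype, ?_⟩
  calc Nat.card (Subgroup.closure (g '' {x | x < k}))
      ≤ Nat.card (Set.range f) := Nat.card_mono (Set.finite_range f) hsub
    _ ≤ Nat.card (Fin n × H) := Finite.card_range_le f
    _ = n * Nat.card H := by rw [Nat.card_prod, Nat.card_fin]

variable (g : ℕ → G) (R : List (List ℕ))

/-- The subgroup generated by some of the letters. -/
def letSub (L : List ℕ) : Subgroup G := Subgroup.closure {y | ∃ x ∈ L, y = g x}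

theorem letSub_nil : letSub g [] = ⊥ := by simp [letSub]

/-- An enumeration of the subgroup on the letters `L` over the subgroup on the letters `L'`. -/
structure Stage where
  L : List ℕ
  L' : List ℕ
  L_ok : (List.range L.length).all (fun i => Nat.blt (iv i) L.length &&
    Nat.beq (L.getD (iv i) 0) (iv (L.getD i 0))) = true
  rels : List (List ℕ)
  rels_ok : rels.all (fun w => decide (w.map (fun x => L.getD x 0) ∈ R)) = true
  subs : List ℕ
  subs_ok : subs.all (fun x => decide (L.getD x 0 ∈ L')) = true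
  n : ℕ
  tb : ℕ → ℕ
  parN : ℕ
  parX : ℕ

namespace Stage

variable {R} (E : Stage R)

/-- Relators, then subgroup generators. -/
def wd (r : ℕ) : List ℕ := (E.rels ++ E.subs.map fun x => [x]).getD r []

/-- The global letter of a local one. -/
def lg (x : ℕ) : G := g (E.L.getD x 0)

variable (hg : ∀ x, g (iv x) = (g x)⁻¹)

include hg in
theorem lg_iv {x : ℕ} (hx : x < E.L.length) : iv x < E.L.length ∧ lg g E (iv x) = (lg g E x)⁻¹ := by
  have h := List.all_eq_true.1 E.L_ok x (List.mem_range.2 hx)
  simp only [Bool.and_eq_true, Nat.blt_eq] at h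
  exact ⟨h.1, by rw [lg, lg, Nat.eq_of_beq_eq_true h.2, hg]⟩

/-- Soundness invariant. -/
def Good (B : ℕ) : Prop :=
  Inv (lg g E) (letSub g E.L') E.L.length E.tb (crOf (lg g E) E.parN E.parX) B

include hg in
theorem good_tree (d B : ℕ) (h : runTree E.L.length E.tb iv E.parN E.parX d = B) : E.Good g B :=
  h ▸ runTree_sound (fun _ hx _ => (E.lg_iv g hg hx).2) (crOf_step _ E.parN E.parX) d

variable (hR : ∀ w ∈ R, prodw g w = 1)

theorem prodw_lg (w : List ℕ) : prodw (lg g E) w = prodw g (w.map fun x => E.L.getD x 0) := by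
  simp only [prodw, List.map_map]
  rfl

include hR in
theorem hrel (r : ℕ) (hr : r < E.rels.length) : prodw (lg g E) (E.wd r) = 1 := by
  have hmem : E.wd r ∈ E.rels := by
    simp only [wd]
    rw [List.getD_eq_getElem _ _ (show r < (E.rels ++ E.subs.map fun x => [x]).length by
        rw [List.length_append]; omega), List.getElem_append_left hr]
    exact List.getElem_mem hr
  rw [E.prodw_lg]
  exact hR _ (of_decide_eq_true (List.all_eq_true.mp E.rels_ok _ hmem))

include hR in
theorem hsub (r : ℕ) (hr : r < E.rels.length + E.subs.length) :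
    prodw (lg g E) (E.wd r) ∈ letSub g E.L' := by
  by_cases h : r < E.rels.length
  · rw [E.hrel g hR r h]; exact one_mem _
  · simp only [wd]
    rw [List.getD_eq_getElem _ _ (show r < (E.rels ++ E.subs.map fun x => [x]).length by
        rw [List.length_append, List.length_map]; omega),
      List.getElem_append_right (Nat.le_of_not_lt h), List.getElem_map]
    have hlt : r - E.rels.length < E.subs.length := by omega
    refine Subgroup.subset_closure ⟨E.L.getD (E.subs[r - E.rels.length]'hlt) 0,
      of_decide_eq_true (List.all_eq_true.mp E.subs_ok _ (List.getElem_mem hlt)), ?_⟩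
    simp [prodw, lg]

include hg hR in
theorem good_ded (d steps nR nW B B' : ℕ) (hnR : nR = E.rels.length)
    (hW : nW = E.rels.length + E.subs.length) (hB : E.Good g B)
    (h : runDed E.L.length E.tb iv E.wd nR nW d steps B = B') : E.Good g B' := by
  subst h hnR hW
  exact runDed_sound (fun _ hx _ => (E.lg_iv g hg hx).2) (crOf_zero _ _ _) (E.hrel g hR)
    (E.hsub g hR) hB

include hg in
theorem bound {d B m : ℕ} (hL : E.L.length ≤ 16) (hd : E.n ≤ 2 ^ d) (hn : 0 < E.n) (hB : E.Good g B)
    (hv : allR (validEntry E.n E.L.length E.tb iv) d 0 = true)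
    (hfull : B = 2 ^ (E.n * E.L.length) - 1)
    (hfin : Finite (letSub g E.L')) (hm : Nat.card (letSub g E.L') ≤ m) :
    Finite (letSub g E.L) ∧ Nat.card (letSub g E.L) ≤ E.n * m := by
  have h := @finite_and_card_le _ _ (lg g E) (letSub g E.L') E.L.length E.n E.tb
    (crOf (lg g E) E.parN E.parX) hfin B d hL hd hn (fun _ hx => E.lg_iv g hg hx)
    (crOf_zero _ _ _) hv hfull hB
  have hc : Subgroup.closure (lg g E '' {x | x < E.L.length}) = letSub g E.L := by
    unfold letSub
    congr 1
    ext y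
    constructor
    · rintro ⟨i, hi, rfl⟩
      have hi' : i < E.L.length := hi
      exact ⟨_, List.getElem_mem hi', by rw [lg, List.getD_eq_getElem _ _ hi']⟩
    · rintro ⟨x, hx, rfl⟩
      obtain ⟨i, hi, rfl⟩ := List.getElem_of_mem hx
      exact ⟨i, hi, by rw [lg, List.getD_eq_getElem _ _ hi]⟩
  rw [hc] at h
  exact ⟨h.1, h.2.trans (Nat.mul_le_mul_left _ hm)⟩

end Stage

end CfsgLib.LyG2
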