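import Cfsg.Agent.LyG2.Upper

/-!
A presentation on the eight generators `a, b, c, d, e, c2, c3, c4` (letters `2i`, and `2i + 1` for
the inverse), made of relators of `Ly` and their consequences.
-/

set_option autoImplicit false

namespace CfsgLib.LyG2

open CfsgLib.CosetEnum

/-- The relators. -/
def rwords : List (List ℕ) :=
  [[0, 0, 0, 0, 0, 0, 0, 0],
    [2, 2, 2, 2, 2],
    [0, 2, 0, 2, 0, 2, 0, 2],
    [1, 1, 3, 0, 0, 2],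
    [1, 3, 0, 2, 1, 3, 0, 2, 1, 3, 0, 2],
    [10, 1, 5, 0],
    [12, 3, 5, 2],
    [14, 2, 5, 3],
    [4, 4, 4, 4, 4],
    [5, 11, 4, 10, 5, 11, 4, 10, 5, 11, 4, 10, 5, 11, 4, 10, 5, 11, 4, 10],
    [5, 11, 5, 10, 4, 11, 4, 10],
    [11, 11, 5, 10, 4, 10, 5, 11, 4, 10],
    [13, 11, 5, 10, 4, 12, 5, 11, 4, 10],
    [15, 11, 5, 10, 4, 14, 5, 11, 4, 10],
    [5, 13, 4, 12, 5, 11, 4, 10, 5, 11, 4, 10],
    [5, 15, 4, 14, 11, 5, 10, 4, 11, 5, 10, 4],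
    [11, 13, 10, 12, 5, 11, 4, 10],
    [11, 15, 10, 14],
    [13, 15, 12, 14, 5, 11, 4, 10],
    [1, 10, 0, 4, 4],
    [1, 12, 0, 15, 5, 12, 12],
    [1, 14, 0, 15, 5, 15, 12, 10, 5],
    [1, 5, 11, 4, 10, 0, 11, 5, 10, 4, 11, 5, 10, 4],
    [3, 10, 2, 14, 4, 14, 13, 11],
    [3, 12, 2, 12, 12, 15, 5, 5],
    [3, 5, 11, 4, 10, 2, 11, 5, 10, 4],
    [8, 7, 5, 7, 2, 1, 3, 5, 7, 1, 5, 0, 5, 1, 4, 0, 2, 2],
    [8, 8],
    [9, 4, 8, 4, 3, 13, 3],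
    [9, 12, 8, 0, 14, 4, 11, 1, 3, 3],
    [9, 14, 8, 15, 12, 3, 3],
    [9, 5, 11, 4, 10, 8, 14, 5, 12, 5],
    [8, 0, 0, 8, 14, 11, 5, 10, 1, 2, 1, 3, 3, 1],
    [9, 2, 8, 14, 14, 12, 5],
    [8, 0, 2, 2, 0, 3, 0, 8, 14, 11, 5, 10, 1, 1],
    [8, 10, 8, 11, 8, 10, 15, 0, 12, 0, 0, 0],
    [6, 9, 3, 10, 1, 9, 1, 9, 1, 5, 11, 4, 10, 14, 4, 2, 0, 3, 3, 1],
    [6, 6, 1, 1, 1, 1],
    [3, 7, 2, 6],
    [7, 0, 6, 1, 1, 1],
    [6, 5, 11, 4, 10, 6, 5, 11, 4, 10, 6, 5, 11, 4, 10, 6, 5, 11, 4, 10, 6, 5, 11, 4, 10],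
    [6, 5, 11, 4, 10, 6, 11, 5, 10, 4, 6, 5, 11, 4, 10, 1, 1],
    [10, 10, 10, 10, 10],
    [12, 12, 12, 12, 12],
    [14, 14, 14, 14, 14],
    [4, 7, 7, 4, 7, 7]]

/-- A letter in the free group. -/
def fl (x : ℕ) : FreeGroup (Fin 8) := lv (fun i => FreeGroup.of (Fin.ofNat 8 i)) x

/-- The relators in the free group. -/
def relSet : Set (FreeGroup (Fin 8)) := {r | ∃ w ∈ rwords, r = prodw fl w}

/-- The presented group. -/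
abbrev P : Type := PresentedGroup relSet

/-- A letter in the presented group. -/
def pl (x : ℕ) : P := lv (fun i => PresentedGroup.of (Fin.ofNat 8 i)) x

theorem pl_iv (x : ℕ) : pl (iv x) = (pl x)⁻¹ := lv_iv _ _

theorem prodw_pl_eq (w : List ℕ) : prodw pl w = PresentedGroup.mk relSet (prodw fl w) := by
  simp only [prodw, map_list_prod, List.map_map]
  congr 1
  refine List.map_congr_left fun x _ => ?_
  show lv _ x = PresentedGroup.mk relSet (lv _ x)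
  rw [map_lv]
  rfl

theorem prodw_pl {w : List ℕ} (hw : w ∈ rwords) : prodw pl w = 1 :=
  (prodw_pl_eq w).trans (PresentedGroup.one_of_mem ⟨w, hw, rfl⟩)

end CfsgLib.LyG2
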