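import Cfsg.Agent.LyG2.RelMap
import Cfsg.Agent.LyG2.Rep.Hom
import Cfsg.Agent.LyG2.G14.Hom

/-! The subgroup of the presented `Ly` on `a, b, c, d` is `G₂(5)`. -/

set_option autoImplicit false
set_option maxRecDepth 100000

namespace CfsgLib.LyG2

open CfsgLib.CosetEnum Cfsg.Spor Cfsg.Lie

/-- The relators of `Ly`. -/
abbrev lyRels : Set (FreeGroup Ly.Gen) := coxRelators Ly.edges ∪ {r | r ∈ Ly.extra}

/-- The image of a word of the free group in `Ly`. -/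
abbrev toLy : FreeGroup Ly.Gen →* Cfsg.Spor.Ly := PresentedGroup.mk lyRels

theorem extra_one {r : FreeGroup Ly.Gen} (hr : r ∈ Ly.extra) : toLy r = 1 :=
  PresentedGroup.one_of_mem (Or.inr hr)

theorem eq_c1 : toLy Ly.c1 = toLy Ly.c := by
  have := extra_one (r := Ly.c1 * Ly.c⁻¹) (by simp [Ly.extra])
  rwa [map_mul, map_inv, mul_inv_eq_one] at this

theorem eq_c5 : toLy Ly.c5 = toLy (Ly.c⁻¹ * Ly.c2⁻¹ * Ly.c * Ly.c2) := by
  have := extra_one (r := Ly.c5 * (Ly.c1⁻¹ * Ly.c2⁻¹ * Ly.c1 * Ly.c2)⁻¹) (by simp [Ly.extra])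
  simp only [map_mul, map_inv, mul_inv_eq_one, eq_c1] at this ⊢
  exact this

theorem toLy_elim (r : FreeGroup Ly.Gen) : toLy (FreeGroup.lift elim r) = toLy r := by
  have h : (toLy : FreeGroup Ly.Gen →* Cfsg.Spor.Ly).comp (FreeGroup.lift elim) = toLy := by
    refine FreeGroup.ext_hom _ _ fun g => ?_
    rw [MonoidHom.comp_apply, FreeGroup.lift_apply_of]
    cases g
    case c1 => exact eq_c1.symm
    case c5 => exact eq_c5.symm
    all_goals rfl
  exact DFunLike.congr_fun h r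

theorem pair_one {p : ℕ × List ℕ} (hp : p ∈ pairs) : toLy (prodw gl p.2) = 1 := by
  obtain ⟨i, hi, rfl⟩ := List.getElem_of_mem hp
  have h := congrArg (fun l => l.getD i 1) pairs_eq
  simp only [List.getD_eq_getElem?_getD, List.getElem?_map, List.getElem?_eq_getElem hi,
    Option.map_some, Option.getD_some] at h
  rw [h, toLy_elim]
  have hlt := of_decide_eq_true (List.all_eq_true.1 pairs_lt _ (List.getElem_mem hi))
  rw [List.getElem?_eq_getElem (show pairs[i].1 < Ly.extra.length by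
    rw [show Ly.extra.length = 86 from rfl]; exact hlt), Option.getD_some]
  exact extra_one (List.getElem_mem _)

theorem conj_rules :
    toLy Ly.c ^ 5 = 1 ∧ toLy Ly.c2 = (toLy Ly.a)⁻¹ * toLy Ly.c * toLy Ly.a ∧
    (toLy Ly.a)⁻¹ * toLy Ly.c2 * toLy Ly.a = (toLy Ly.c ^ 2)⁻¹ ∧
    toLy Ly.c3 = (toLy Ly.b)⁻¹ * toLy Ly.c * toLy Ly.b ∧
    toLy Ly.c4 = toLy Ly.b * toLy Ly.c * (toLy Ly.b)⁻¹ ∧
    toLy Ly.d ^ 2 = toLy Ly.a ^ 4 ∧ toLy Ly.a ^ 8 = 1 := by
  have h11 := extra_one (r := Ly.c1 ^ 5) (by simp [Ly.extra])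
  have h7 := extra_one (r := Ly.c2 * (Ly.a⁻¹ * Ly.c * Ly.a)⁻¹) (by simp [Ly.extra])
  have h22 := extra_one (r := (Ly.a⁻¹ * Ly.c2 * Ly.a) * ((Ly.c1 ^ 2)⁻¹)⁻¹) (by simp [Ly.extra])
  have h8 := extra_one (r := Ly.c3 * (Ly.b⁻¹ * Ly.c * Ly.b)⁻¹) (by simp [Ly.extra])
  have h9 := extra_one (r := Ly.c4 * ((Ly.b⁻¹)⁻¹ * Ly.c * Ly.b⁻¹)⁻¹) (by simp [Ly.extra])
  have h40 := extra_one (r := Ly.d ^ 2 * (Ly.a ^ 4)⁻¹) (by simp [Ly.extra])
  have h1 := extra_one (r := Ly.a ^ 8) (by simp [Ly.extra])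
  simp only [map_mul, map_pow, map_inv, inv_inv, mul_inv_eq_one, eq_c1] at h11 h7 h8 h9 h40 h1 h22
  exact ⟨h11, h7, mul_eq_one_iff_eq_inv.1 h22, h8, h9, h40, h1⟩

theorem word_c_d : toLy (prodw gl [4, 7, 7, 4, 7, 7]) = 1 := by
  obtain ⟨hc, h7, h22, -, -, hd, ha⟩ := conj_rules
  have e : toLy (prodw gl [4, 7, 7, 4, 7, 7]) =
      toLy Ly.c * (toLy Ly.d ^ 2)⁻¹ * toLy Ly.c * (toLy Ly.d ^ 2)⁻¹ := by
    simp only [prodw, gl, lv_eq, gen8, List.map_cons, List.map_nil, List.prod_cons, List.prod_nil,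
      mul_one, map_mul, pow_two, mul_inv_rev, Nat.reduceMod, Nat.reduceDiv, if_true, one_ne_zero,
      if_false, map_inv, mul_assoc]
  rw [e, hd]
  generalize toLy Ly.a = a at *
  generalize toLy Ly.c = c at *
  generalize toLy Ly.c2 = c2 at *
  subst h7
  have e1 : (a ^ 2)⁻¹ * c * a ^ 2 = (c ^ 2)⁻¹ := by
    rw [← h22]
    simp only [pow_two, mul_inv_rev, mul_assoc]
  have e2 : (a ^ 4)⁻¹ * c * a ^ 4 = c ^ 4 := by
    calc (a ^ 4)⁻¹ * c * a ^ 4 = (a ^ 2)⁻¹ * ((a ^ 2)⁻¹ * c * a ^ 2) * a ^ 2 := by group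
      _ = (a ^ 2)⁻¹ * (c ^ 2)⁻¹ * a ^ 2 := by rw [e1]
      _ = (((a ^ 2)⁻¹ * c * a ^ 2) * ((a ^ 2)⁻¹ * c * a ^ 2))⁻¹ := by group
      _ = c ^ 4 := by rw [e1]; group
  have e3 : c⁻¹ = c ^ 4 := inv_eq_of_mul_eq_one_right (by rw [← pow_succ']; exact hc)
  calc c * (a ^ 4)⁻¹ * c * (a ^ 4)⁻¹
      = c * ((a ^ 4)⁻¹ * c * a ^ 4) * (a ^ 8)⁻¹ := by group
    _ = 1 := by rw [e2, ← e3, ha]; group

theorem word_pow {x : ℕ} (hx : x = 10 ∨ x = 12 ∨ x = 14) : toLy (prodw gl (List.replicate 5 x)) = 1 := by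
  obtain ⟨hc, h7, -, h8, h9, -, -⟩ := conj_rules
  rw [prodw, List.map_replicate, List.prod_replicate, map_pow]
  have hp : ∀ g : Cfsg.Spor.Ly, (g⁻¹ * toLy Ly.c * g) ^ 5 = 1 := fun g => by
    rw [show g⁻¹ * toLy Ly.c * g = g⁻¹ * toLy Ly.c * g⁻¹⁻¹ by rw [inv_inv], conj_pow, hc]
    group
  rcases hx with rfl | rfl | rfl
  · rw [show toLy (gl 10) = toLy Ly.c2 from rfl, h7]; exact hp _
  · rw [show toLy (gl 12) = toLy Ly.c3 from rfl, h8]; exact hp _
  · rw [show toLy (gl 14) = toLy Ly.c4 from rfl, h9]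
    have := hp (toLy Ly.b)⁻¹
    rwa [inv_inv] at this

theorem rwords_one {w : List ℕ} (hw : w ∈ rwords) : toLy (prodw gl w) = 1 := by
  rw [pairs_cover] at hw
  rcases List.mem_append.1 hw with h | h
  · obtain ⟨p, hp, rfl⟩ := List.mem_map.1 h
    exact pair_one hp
  · simp only [List.mem_cons, List.not_mem_nil, or_false] at h
    rcases h with rfl | rfl | rfl | rfl
    · exact word_pow (x := 10) (Or.inl rfl)
    · exact word_pow (x := 12) (Or.inr (Or.inl rfl))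
    · exact word_pow (x := 14) (Or.inr (Or.inr rfl))
    · exact word_c_d

theorem p_rels : ∀ r ∈ relSet,
    FreeGroup.lift (fun i : Fin 8 => toLy (FreeGroup.of (gen8 i.val))) r = 1 := by
  rintro _ ⟨w, hw, rfl⟩
  rw [← rwords_one hw]
  simp only [prodw, map_list_prod, List.map_map]
  congr 1
  refine List.map_congr_left fun x hx => ?_
  have hx' : x < 16 := Nat.le_of_ble_eq_true
    (List.all_eq_true.1 (List.all_eq_true.1 G14.rwords_lt w hw) x hx)
  show FreeGroup.lift _ (fl x) = toLy (gl x)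
  rw [fl, gl, map_lv, map_lv]
  simp only [FreeGroup.lift_apply_of, lv_eq, Fin.val_ofNat, show x / 2 % 8 = x / 2 by omega]

/-- The generators of the subgroup. -/
abbrev abcd : Set (FreeGroup Ly.Gen) := {Ly.a, Ly.b, Ly.c, Ly.d}

theorem gen8_mem (i : Fin 8) :
    toLy (FreeGroup.of (gen8 i.val)) ∈ (Subgroup.closure abcd).map toLy := by
  obtain ⟨-, h7, -, h8, h9, -, -⟩ := conj_rules
  set H := (Subgroup.closure abcd).map toLy
  have hm : ∀ g ∈ abcd, toLy g ∈ H := fun g hg => Subgroup.mem_map_of_mem _ (Subgroup.subset_closure hg)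
  have ha := hm Ly.a (by simp)
  have hb := hm Ly.b (by simp)
  have hc := hm Ly.c (by simp)
  have hd := hm Ly.d (by simp)
  fin_cases i
  · exact ha
  · exact hb
  · exact hc
  · exact hd
  · have h29 := extra_one (r := Ly.e * (((Ly.b ^ 2)⁻¹) * (Ly.a⁻¹ * Ly.c1⁻¹ * Ly.a * Ly.c1) * (Ly.a⁻¹) *
      Ly.c1 * Ly.a * Ly.d * Ly.c1 * Ly.b * Ly.a * (Ly.b⁻¹) * Ly.d * Ly.c1 * Ly.d)⁻¹) (by simp [Ly.extra])
    simp only [map_mul, map_inv, map_pow, mul_inv_eq_one, eq_c1] at h29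
    show toLy Ly.e ∈ H
    rw [h29]
    exact mul_mem (mul_mem (mul_mem (mul_mem (mul_mem (mul_mem (mul_mem (mul_mem (mul_mem (mul_mem
      (mul_mem (mul_mem (inv_mem (pow_mem hb 2)) (mul_mem (mul_mem (mul_mem (inv_mem ha) (inv_mem hc)) ha)
      hc)) (inv_mem ha)) hc) ha) hd) hc) hb) ha) (inv_mem hb)) hd) hc) hd
  · show toLy Ly.c2 ∈ H
    rw [h7]; exact mul_mem (mul_mem (inv_mem ha) hc) ha
  · show toLy Ly.c3 ∈ H
    rw [h8]; exact mul_mem (mul_mem (inv_mem hb) hc) hb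
  · show toLy Ly.c4 ∈ H
    rw [h9]; exact mul_mem (mul_mem hb hc) (inv_mem hb)

/-- The subgroup on `a, b, c, d`. -/
theorem nonempty_equiv_sub :
    Nonempty (((Subgroup.closure abcd).map (PresentedGroup.mk lyRels)) ≃* G14.G25) := by
  obtain ⟨E⟩ := G14.nonempty_equiv
  haveI : IsSimpleGroup G14.G25 := G14.isSimple
  haveI : IsSimpleGroup P := E.isSimpleGroup
  let ψ : P →* Cfsg.Spor.Ly := PresentedGroup.toGroup p_rels
  have hψ : ∀ i, ψ (PresentedGroup.of i) = toLy (FreeGroup.of (gen8 i.val)) :=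
    fun i => PresentedGroup.toGroup.of _
  have hrange : ψ.range = (Subgroup.closure abcd).map toLy := by
    refine le_antisymm ?_ ?_
    · rw [MonoidHom.range_eq_map, ← PresentedGroup.closure_range_of, MonoidHom.map_closure,
        Subgroup.closure_le]
      rintro _ ⟨_, ⟨i, rfl⟩, rfl⟩
      rw [hψ]
      exact gen8_mem i
    · rw [MonoidHom.map_closure, Subgroup.closure_le]
      rintro _ ⟨g, hg, rfl⟩
      simp only [abcd, Set.mem_insert_iff, Set.mem_singleton_iff] at hg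
      rcases hg with rfl | rfl | rfl | rfl
      · exact ⟨PresentedGroup.of 0, hψ 0⟩
      · exact ⟨PresentedGroup.of 1, hψ 1⟩
      · exact ⟨PresentedGroup.of 2, hψ 2⟩
      · exact ⟨PresentedGroup.of 3, hψ 3⟩
  have hinj : Function.Injective ψ := by
    rcases ψ.normal_ker.eq_bot_or_eq_top with h | h
    · exact (MonoidHom.ker_eq_bot_iff ψ).1 h
    · refine absurd ?_ Rep.a_ne_one
      have : PresentedGroup.of 0 ∈ ψ.ker := h ▸ Subgroup.mem_top _
      rw [MonoidHom.mem_ker, hψ] at this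
      exact this
  rw [← hrange]
  exact ⟨(MonoidHom.ofInjective hinj).symm.trans E⟩

end CfsgLib.LyG2
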