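import Cfsg.Agent.CosetEnum.Engine
import Mathlib.LinearAlgebra.Matrix.GeneralLinearGroup.Defs
import Mathlib.Data.ZMod.Basic
import Mathlib.Algebra.BigOperators.Fin

/-!
Words in square matrices over `ZMod 5` evaluated on packed matrices (24 bits per entry): one
product costs about as many multiplications of natural numbers as the matrix has columns.
-/

set_option autoImplicit false

namespace CfsgLib.LyG2

open CfsgLib.CosetEnum Finset

/-- The base of the packing. -/
abbrev base : ℕ := 16777216

/-- The entry in a slot. -/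
def dig (n s : ℕ) : ℕ := Nat.land (Nat.shiftRight n (Nat.mul 24 s)) 16777215

theorem dig_eq (n s : ℕ) : dig n s = n / base ^ s % base := by
  show (n >>> (24 * s)) &&& 16777215 = _
  rw [Nat.shiftRight_eq_div_pow, show (16777215 : ℕ) = 2 ^ 24 - 1 from rfl,
    Nat.and_two_pow_sub_one_eq_mod, show base = 2 ^ 24 from rfl, pow_mul]

/-- The number with given slots. -/
def pack (f : ℕ → ℕ) (k : ℕ) : ℕ := ∑ s ∈ range k, f s * base ^ s

theorem pack_succ (f : ℕ → ℕ) (k : ℕ) :
    pack f (k + 1) = f 0 + base * pack (fun i => f (i + 1)) k := by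
  rw [pack, pack, sum_range_succ', mul_sum, add_comm]
  simp only [pow_zero, mul_one, pow_succ']
  congr 1
  exact sum_congr rfl fun i _ => by ring

theorem dig_pack : ∀ (k : ℕ) (f : ℕ → ℕ), (∀ i < k, f i < base) → ∀ j < k,
    dig (pack f k) j = f j := by
  intro k
  induction k with
  | zero => intro f _ j hj; exact absurd hj (by omega)
  | succ k ih =>
    intro f hf j hj
    rw [dig_eq, pack_succ]
    cases j with
    | zero => simp [Nat.add_mul_mod_self_left, Nat.mod_eq_of_lt (hf 0 (by omega))]
    | succ j =>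
      rw [pow_succ', ← Nat.div_div_eq_div_mul, Nat.add_mul_div_left _ _ (by norm_num),
        Nat.div_eq_of_lt (hf 0 (by omega)), zero_add, ← dig_eq]
      exact ih (fun i => f (i + 1)) (fun i hi => hf (i + 1) (by omega)) j (by omega)

theorem pack_dig : ∀ (k n : ℕ), n < base ^ k → pack (dig n) k = n := by
  intro k
  induction k with
  | zero => intro n h; simp [pack] at *; omega
  | succ k ih =>
    intro n h
    rw [pow_succ'] at h
    have e : (fun i => dig n (i + 1)) = dig (n / base) := by
      funext i; rw [dig_eq, dig_eq, pow_succ', Nat.div_div_eq_div_mul]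
    rw [pack_succ, e, ih _ (Nat.div_lt_of_lt_mul h), dig_eq, pow_zero, Nat.div_one]
    exact Nat.mod_add_div n base

theorem pack_lt : ∀ (k : ℕ) (g : ℕ → ℕ), (∀ i < k, g i < base) → pack g k < base ^ k := by
  intro k
  induction k with
  | zero => intro g _; simp [pack]
  | succ k ih =>
    intro g hg
    rw [pack_succ, pow_succ']
    have h1 := ih (fun i => g (i + 1)) fun i hi => hg (i + 1) (by omega)
    have h2 := hg 0 (by omega)
    have h3 : base * (pack (fun i => g (i + 1)) k + 1) ≤ base * base ^ k :=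
      Nat.mul_le_mul_left _ h1
    rw [mul_add, mul_one] at h3
    omega

theorem sum_range_mul (N : ℕ) (F : ℕ → ℕ) : ∀ a : ℕ,
    ∑ s ∈ range (a * N), F s = ∑ i ∈ range a, ∑ k ∈ range N, F (i * N + k) := by
  intro a
  induction a with
  | zero => simp
  | succ a ih => rw [add_one_mul, sum_range_add, ih, sum_range_succ]

/-- A row of a packed matrix. -/
def slice (N X j : ℕ) : ℕ :=
  Nat.land (Nat.shiftRight X (Nat.mul (Nat.mul 24 N) j)) (Nat.sub (Nat.pow 2 (Nat.mul 24 N)) 1)

theorem slice_eq (N X j : ℕ) : slice N X j = X / base ^ (j * N) % base ^ N := by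
  show (X >>> (24 * N * j)) &&& (2 ^ (24 * N) - 1) = _
  rw [Nat.shiftRight_eq_div_pow, Nat.and_two_pow_sub_one_eq_mod, show base = 2 ^ 24 from rfl,
    ← pow_mul, ← pow_mul, Nat.mul_assoc, Nat.mul_comm N j]

theorem dig_slice (N X j k : ℕ) (hk : k < N) : dig (slice N X j) k = dig X (j * N + k) := by
  obtain ⟨t, rfl⟩ : ∃ t, N = k + (t + 1) := ⟨N - k - 1, by omega⟩
  rw [slice_eq, dig_eq, dig_eq, pow_add _ (j * _) k, ← Nat.div_div_eq_div_mul, pow_add,
    Nat.mod_mul_right_div_self, pow_succ', Nat.mod_mul_right_mod]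

/-- The sum of the products of spaced columns with rows. -/
def macc (N : ℕ) : List ℕ → ℕ → ℕ → ℕ
  | [], _, _ => 0
  | c :: cs, X, j => Nat.add (Nat.mul c (slice N X j)) (macc N cs X (j + 1))

theorem macc_eq (N : ℕ) : ∀ (cs : List ℕ) (X j : ℕ),
    macc N cs X j = ∑ u ∈ range cs.length, cs.getD u 0 * slice N X (j + u) := by
  intro cs
  induction cs with
  | nil => intro X j; simp [macc]
  | cons c cs ih =>
    intro X j
    show c * slice N X j + macc N cs X (j + 1) = _
    rw [ih, List.length_cons, sum_range_succ', add_comm]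
    simp only [List.getD_cons_succ, List.getD_cons_zero, add_zero]
    congr 1
    exact sum_congr rfl fun u _ => by rw [show j + 1 + u = j + (u + 1) by omega]

/-- A one in every slot. -/
def repOne (k : ℕ) : ℕ :=
  Nat.div (Nat.sub (Nat.pow 2 (Nat.mul 24 k)) 1) 16777215

theorem repOne_eq (k : ℕ) : repOne k = pack (fun _ => 1) k := by
  have h := Nat.geomSum_eq (show 2 ≤ base by simp [base]) k
  simp only [pack, one_mul, h]
  show (2 ^ (24 * k) - 1) / 16777215 = _
  rw [pow_mul]
  rfl

theorem dig_fill {v k s : ℕ} (hv : v < base) (hs : s < k) : dig (Nat.mul v (repOne k)) s = v := by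
  show dig (v * repOne k) s = v
  rw [repOne_eq, show v * pack (fun _ => 1) k = pack (fun _ => v) k by simp [pack, mul_sum],
    dig_pack _ _ (fun _ _ => hv) _ hs]

theorem dig_land (x y s : ℕ) : dig (Nat.land x y) s = dig x s &&& dig y s := by
  show ((x &&& y) >>> (24 * s)) &&& 16777215 = ((x >>> (24 * s)) &&& 16777215) &&& ((y >>> (24 * s)) &&& 16777215)
  apply Nat.eq_of_testBit_eq
  intro i
  simp only [Nat.testBit_and, Nat.testBit_shiftRight]
  cases Nat.testBit 16777215 i <;> simp

/-- A one at the start of every row. -/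
def repRow (N : ℕ) : ℕ :=
  Nat.div (Nat.sub (Nat.pow 2 (Nat.mul (Nat.mul 24 N) N)) 1) (Nat.sub (Nat.pow 2 (Nat.mul 24 N)) 1)

/-- All bits of the first slot of every row. -/
def colMask (N : ℕ) : ℕ := Nat.mul 16777215 (repRow N)

theorem colMask_eq {N : ℕ} (hN : 0 < N) :
    colMask N = pack (fun s => if s % N = 0 then 16777215 else 0) (N * N) := by
  have h := Nat.geomSum_eq (m := base ^ N)
    (le_trans (show 2 ≤ base by simp [base]) (Nat.le_self_pow (by omega) _)) N
  show 16777215 * ((2 ^ (24 * N * N) - 1) / (2 ^ (24 * N) - 1)) = _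
  rw [show base ^ N = 2 ^ (24 * N) by rw [show base = 2 ^ 24 from rfl, ← pow_mul], ← pow_mul] at h
  rw [← h, pack, sum_range_mul, mul_sum]
  refine sum_congr rfl fun i _ => ?_
  rw [sum_eq_single 0]
  · rw [if_pos (by simp), add_zero, show base = 2 ^ 24 from rfl, ← pow_mul, ← pow_mul]
    congr 2
    ring
  · intro k hk hk0
    rw [if_neg, zero_mul]
    rw [Nat.add_comm, Nat.add_mul_mod_self_right, Nat.mod_eq_of_lt (mem_range.1 hk)]
    exact hk0
  · intro h0; exact absurd (mem_range.2 hN) h0

/-- A column with its entries spaced by the length of a row. -/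
def colOf (cm A j : ℕ) : ℕ := Nat.land (Nat.shiftRight A (Nat.mul 24 j)) cm

/-- All spaced columns. -/
def cols (N cm A : ℕ) : List ℕ := (List.range N).map (colOf cm A)

theorem dig_shift (A j s : ℕ) : dig (Nat.shiftRight A (Nat.mul 24 j)) s = dig A (s + j) := by
  show ((A >>> (24 * j)) >>> (24 * s)) &&& 16777215 = (A >>> (24 * (s + j))) &&& 16777215
  rw [← Nat.shiftRight_add, Nat.mul_add, Nat.add_comm (24 * j)]

/-- A packed matrix. -/
def toX (N X : ℕ) : Matrix (Fin N) (Fin N) (ZMod 5) :=
  Matrix.of fun i j => (dig X (i.val * N + j.val) : ZMod 5)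

/-- The masks of a size: all but three bits, all but nine bits of every slot. -/
structure Masks (N : ℕ) where
  hi3 : ℕ
  hi9 : ℕ
  hi3_ok : ∀ s < N * N, dig hi3 s = 16777208
  hi9_ok : ∀ s < N * N, dig hi9 s = 16776704

theorem dig_lt_of_land {m : ℕ} (hm : m ≤ 24) {x y s : ℕ} (h : Nat.land x y = 0)
    (hy : dig y s = 16777216 - 2 ^ m) : dig x s < 2 ^ m := by
  have h0 : dig x s &&& (16777216 - 2 ^ m) = 0 := by
    rw [← hy, ← dig_land, h]; simp [dig_eq]
  have hlt : dig x s < 2 ^ 24 := by rw [dig_eq]; exact Nat.mod_lt _ (by norm_num)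
  refine Nat.lt_pow_two_of_testBit _ fun i hi => ?_
  by_contra hb
  rw [Bool.not_eq_false] at hb
  have hi24 : i < 24 := by
    by_contra hc
    rw [Nat.testBit_eq_false_of_lt (lt_of_lt_of_le hlt (Nat.pow_le_pow_right (by norm_num) (by omega)))] at hb
    exact Bool.noConfusion hb
  have : (16777216 - 2 ^ m).testBit i = true := by
    have e : 16777216 - 2 ^ m = 2 ^ m * (2 ^ (24 - m) - 1) := by
      rw [Nat.mul_sub, ← pow_add, show m + (24 - m) = 24 by omega, mul_one]
      norm_num
    rw [e, Nat.testBit_two_pow_mul, Nat.testBit_two_pow_sub_one]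
    simp [hi, show i - m < 24 - m by omega]
  have h2 := congrArg (fun z => Nat.testBit z i) h0
  simp [Nat.testBit_and, hb, this] at h2

theorem colOf_eq {N : ℕ} (A : ℕ) {j : ℕ} (hj : j < N) :
    colOf (colMask N) A j = ∑ i ∈ range N, dig A (i * N + j) * base ^ (i * N) := by
  have hN : 0 < N := by omega
  have hlt : colOf (colMask N) A j < base ^ (N * N) := by
    refine lt_of_le_of_lt Nat.and_le_right ?_
    rw [colMask_eq hN]
    exact pack_lt _ _ fun i _ => by split <;> simp [base]
  rw [← pack_dig _ _ hlt, pack, sum_range_mul]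
  refine sum_congr rfl fun i hi => ?_
  have hi' := mem_range.1 hi
  have hd : ∀ k < N, dig (colOf (colMask N) A j) (i * N + k) =
      if k = 0 then dig A (i * N + j) else 0 := by
    intro k hk
    have hs : i * N + k < N * N := by
      calc i * N + k < (i + 1) * N := by rw [add_one_mul]; omega
        _ ≤ N * N := Nat.mul_le_mul_right N hi'
    rw [colOf, dig_land, dig_shift, colMask_eq hN,
      dig_pack _ _ (fun s _ => by split <;> simp [base]) _ hs,
      Nat.add_comm (i * N) k, Nat.add_mul_mod_self_right, Nat.mod_eq_of_lt hk]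
    by_cases e : k = 0
    · subst e
      rw [if_pos rfl, if_pos rfl, zero_add, show (16777215 : ℕ) = 2 ^ 24 - 1 from rfl,
        Nat.and_two_pow_sub_one_eq_mod]
      exact Nat.mod_eq_of_lt (by rw [dig_eq]; exact Nat.mod_lt _ (by norm_num))
    · rw [if_neg e, if_neg e]; simp
  rw [sum_eq_single 0]
  · rw [hd 0 hN, if_pos rfl, add_zero]
  · intro k hk hk0
    rw [hd k (mem_range.1 hk), if_neg hk0, zero_mul]
  · intro h0; exact absurd (mem_range.2 hN) h0

/-- The check of a word of matrices applied to a packed matrix, reduced after every product. -/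
def chk (N hi3 hi9 lo9 cm one : ℕ) (tabs : ℕ → ℕ) (w : List ℕ) (X : ℕ) : Bool :=
  List.rec (fun X => Nat.beq X one)
    (fun x _ ih X => force (macc N (cols N cm (tabs x)) X 0) fun acc =>
      force (Nat.land (Nat.shiftRight (Nat.mul acc 6554) 15) lo9) fun q =>
        Nat.ble (Nat.mul 5 q) acc && force (Nat.sub acc (Nat.mul 5 q)) fun c =>
          Nat.beq (Nat.land c hi3) 0 && (Nat.beq (Nat.land q hi9) 0 && ih c)) w X

variable {N : ℕ} (hN : N ≤ 300) (M : Masks N)
include hN

theorem toX_mul_toX {A : ℕ} (hA : ∀ s < N * N, dig A s < 8) {X : ℕ}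
    (hX : ∀ s < N * N, dig X s < 8) {q c : ℕ}
    (he : c + 5 * q = macc N (cols N (colMask N) A) X 0) (hc : Nat.land c M.hi3 = 0)
    (hq : Nat.land q M.hi9 = 0) :
    toX N A * toX N X = toX N c ∧ ∀ s < N * N, dig c s < 8 := by
  have ha : ∀ i < N, ∀ j < N, dig A (i * N + j) < 8 := fun i hi j hj => hA _ (by
    calc i * N + j < (i + 1) * N := by rw [add_one_mul]; omega
      _ ≤ N * N := Nat.mul_le_mul_right N hi)
  set f : ℕ → ℕ := fun s => ∑ j ∈ range N, dig A (s / N * N + j) * dig X (j * N + s % N) with hf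
  have hacc : macc N (cols N (colMask N) A) X 0 = pack f (N * N) := by
    rw [macc_eq, show (cols N (colMask N) A).length = N by simp [cols], pack, sum_range_mul]
    have hcol : ∀ u < N, (cols N (colMask N) A).getD u 0 * slice N X u =
        ∑ i ∈ range N, ∑ k ∈ range N,
          dig A (i * N + u) * dig X (u * N + k) * base ^ (i * N + k) := by
      intro u hu
      rw [List.getD_eq_getElem _ _ (by simp [cols, hu])]
      simp only [cols, List.getElem_map, List.getElem_range, colOf_eq A hu]
      conv_lhs => rw [← pack_dig N (slice N X u) (by rw [slice_eq]; exact Nat.mod_lt _ (by positivity))]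
      rw [pack, Finset.sum_mul_sum]
      refine sum_congr rfl fun i _ => sum_congr rfl fun k hk => ?_
      rw [dig_slice N X u k (mem_range.1 hk), pow_add]
      ring
    rw [sum_congr rfl fun u hu => by rw [zero_add, hcol u (mem_range.1 hu)], sum_comm]
    refine sum_congr rfl fun i _ => ?_
    rw [sum_comm]
    refine sum_congr rfl fun k hk => ?_
    have hk' := mem_range.1 hk
    have e1 : (i * N + k) / N = i := by
      rw [Nat.add_comm, Nat.add_mul_div_right _ _ (by omega), Nat.div_eq_of_lt hk', zero_add]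
    have e2 : (i * N + k) % N = k := by
      rw [Nat.add_comm, Nat.add_mul_mod_self_right, Nat.mod_eq_of_lt hk']
    simp only [hf, e1, e2, sum_mul]
  have hfb : ∀ s < N * N, f s < base := by
    intro s hs
    have hN0 : 0 < N := Nat.pos_of_ne_zero fun h => by simp [h] at hs
    refine lt_of_le_of_lt (Finset.sum_le_card_nsmul _ _ 49 fun j hj => ?_) ?_
    · have hj' := mem_range.1 hj
      refine Nat.mul_le_mul (Nat.lt_succ_iff.1 (ha _ ((Nat.div_lt_iff_lt_mul hN0).2 hs) j hj'))
        (Nat.lt_succ_iff.1 (hX _ ?_))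
      have := Nat.mod_lt s hN0
      calc j * N + s % N < (j + 1) * N := by rw [add_one_mul]; omega
        _ ≤ N * N := Nat.mul_le_mul_right N hj'
    · simp only [card_range, smul_eq_mul, base]; omega
  have hclt : ∀ s < N * N, dig c s < 8 := fun s hs =>
    dig_lt_of_land (m := 3) (by norm_num) hc (M.hi3_ok s hs)
  have hqlt : ∀ s < N * N, dig q s < 512 := fun s hs =>
    dig_lt_of_land (m := 9) (by norm_num) hq (M.hi9_ok s hs)
  refine ⟨?_, hclt⟩
  have hlt : pack f (N * N) < base ^ (N * N) := pack_lt _ _ hfb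
  have hcq : pack (fun s => dig c s + 5 * dig q s) (N * N) = pack f (N * N) := by
    rw [← hacc, ← he]
    rw [hacc] at he
    conv_rhs => rw [← pack_dig (N * N) c (by omega), ← pack_dig (N * N) q (by omega)]
    simp only [pack, mul_sum, ← sum_add_distrib]
    exact sum_congr rfl fun s _ => by ring
  ext i k
  have hs : i.val * N + k.val < N * N := by
    calc i.val * N + k.val < (i.val + 1) * N := by rw [add_one_mul]; omega
      _ ≤ N * N := Nat.mul_le_mul_right N i.isLt
  have hd := congrArg (fun n => dig n (i.val * N + k.val)) hcq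
  rw [dig_pack _ _ (fun s hs => by have := hclt s hs; have := hqlt s hs; simp only [base]; omega) _ hs,
    dig_pack _ _ hfb _ hs] at hd
  have h5 := congrArg (fun n : ℕ => (n : ZMod 5)) hd
  simp only [hf, Nat.cast_add, Nat.cast_mul, show ((5 : ℕ) : ZMod 5) = 0 from rfl, zero_mul, add_zero,
    Nat.cast_sum] at h5
  have e1 : (i.val * N + k.val) / N = i.val := by
    rw [Nat.add_comm, Nat.add_mul_div_right _ _ (by omega), Nat.div_eq_of_lt k.isLt, zero_add]
  have e2 : (i.val * N + k.val) % N = k.val := by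
    rw [Nat.add_comm, Nat.add_mul_mod_self_right, Nat.mod_eq_of_lt k.isLt]
  rw [e1, e2] at h5
  simp only [toX, Matrix.mul_apply, Matrix.of_apply]
  rw [h5, Fin.sum_univ_eq_sum_range fun j =>
    ((dig A (i.val * N + j) : ℕ) : ZMod 5) * ((dig X (j * N + k.val) : ℕ) : ZMod 5)]

theorem chk_sound (lo9 : ℕ) (tabs : ℕ → ℕ) (one : ℕ) (hone : toX N one = 1) :
    ∀ (w : List ℕ), (∀ x ∈ w, ∀ s < N * N, dig (tabs x) s < 8) → ∀ X, (∀ s < N * N, dig X s < 8) →
      chk N M.hi3 M.hi9 lo9 (colMask N) one tabs w X = true →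
      (w.reverse.map fun x => toX N (tabs x)).prod * toX N X = 1 := by
  intro w
  induction w with
  | nil =>
    intro _ X _ h
    rw [Nat.eq_of_beq_eq_true h, List.reverse_nil, List.map_nil, List.prod_nil, one_mul, hone]
  | cons x w ih =>
    intro hw X hX h
    simp only [chk, force_eq, Bool.and_eq_true] at h
    obtain ⟨h1, h2, h3, h4⟩ := h
    obtain ⟨hmul, hc⟩ := toX_mul_toX hN M (hw x List.mem_cons_self) hX
      (Nat.sub_add_cancel (Nat.le_of_ble_eq_true h1)) (Nat.eq_of_beq_eq_true h2)
      (Nat.eq_of_beq_eq_true h3)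
    rw [List.reverse_cons, List.map_append, List.prod_append, List.map_cons, List.map_nil,
      List.prod_cons, List.prod_nil, mul_one, mul_assoc, hmul]
    exact ih (fun y hy => hw y (List.mem_cons_of_mem x hy)) _ hc
      (by simp only [chk, force_eq]; exact h4)

omit hN

/-- The masks. -/
def masks (N : ℕ) : Masks N where
  hi3 := Nat.mul 16777208 (repOne (Nat.mul N N))
  hi9 := Nat.mul 16776704 (repOne (Nat.mul N N))
  hi3_ok _ hs := dig_fill (by simp [base]) hs
  hi9_ok _ hs := dig_fill (by simp [base]) hs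

/-- The packed identity. -/
def oneX (N : ℕ) : ℕ :=
  Nat.div (Nat.sub (Nat.pow 2 (Nat.mul (Nat.mul 24 (N + 1)) N)) 1)
    (Nat.sub (Nat.pow 2 (Nat.mul 24 (N + 1))) 1)

/-- The packed identity has the right slots. -/
def oneOk (N : ℕ) : Bool :=
  force (oneX N) fun X => (List.range N).all fun i => (List.range N).all fun j =>
    Nat.beq (dig X (i * N + j)) (bif Nat.beq i j then 1 else 0)

theorem dig_oneX {i j : ℕ} (h : oneOk N = true) (hi : i < N) (hj : j < N) :
    dig (oneX N) (i * N + j) = if i = j then 1 else 0 := by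
  simp only [oneOk, force_eq, List.all_eq_true, List.mem_range] at h
  rw [Nat.eq_of_beq_eq_true (h i hi j hj)]
  by_cases e : i = j
  · subst e; simp
  · rw [if_neg e]
    cases hb : Nat.beq i j
    · rfl
    · exact absurd (Nat.eq_of_beq_eq_true hb) e

theorem toX_oneX (h : oneOk N = true) : toX N (oneX N) = 1 := by
  ext i j
  simp only [toX, Matrix.of_apply, dig_oneX h i.isLt j.isLt, Matrix.one_apply, Fin.ext_iff]
  split <;> simp

theorem dig_oneX_lt (h : oneOk N = true) : ∀ s < N * N, dig (oneX N) s < 8 := by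
  intro s hs
  have hN : 0 < N := Nat.pos_of_ne_zero fun e => by simp [e] at hs
  have := dig_oneX h ((Nat.div_lt_iff_lt_mul hN).2 hs) (Nat.mod_lt s hN)
  rw [Nat.mul_comm, Nat.div_add_mod] at this
  rw [this]
  split <;> omega

/-- A packed matrix with reduced entries. -/
def goodX (N A : ℕ) : Bool := Nat.beq (Nat.land A (masks N).hi3) 0

theorem dig_of_goodX {A : ℕ} (h : goodX N A = true) : ∀ s < N * N, dig A s < 8 := fun s hs =>
  dig_lt_of_land (m := 3) (by norm_num) (Nat.eq_of_beq_eq_true h) ((masks N).hi3_ok s hs)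

/-- The check of a list of words. -/
def chkWords (N : ℕ) (tabs : ℕ → ℕ) (ws : List (List ℕ)) : Bool :=
  force (masks N).hi3 fun h3 => force (masks N).hi9 fun h9 =>
    force (Nat.mul 511 (repOne (Nat.mul N N))) fun l9 => force (colMask N) fun cm =>
      force (oneX N) fun o => ws.all fun w => chk N h3 h9 l9 cm o tabs w.reverse o

include hN in
/-- A checked word is trivial. -/
theorem chk_word (tabs : ℕ → ℕ) (hone : oneOk N = true) {ws : List (List ℕ)} {w : List ℕ}
    (hw : ∀ x ∈ w, goodX N (tabs x) = true) (hc : chkWords N tabs ws = true) (hm : w ∈ ws) :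
    (w.map fun x => toX N (tabs x)).prod = 1 := by
  simp only [chkWords, force_eq, List.all_eq_true] at hc
  have := chk_sound hN (masks N) (Nat.mul 511 (repOne (Nat.mul N N))) tabs (oneX N) (toX_oneX hone)
    w.reverse (fun x hx => dig_of_goodX (hw x (List.mem_reverse.1 hx))) _ (dig_oneX_lt hone) (hc w hm)
  rwa [List.reverse_reverse, toX_oneX hone, mul_one] at this

end CfsgLib.LyG2
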