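import Cfsg.Agent.LyG2.Pres
import Cfsg.Prelude.Def_Spor_Ly

/-! The relators on eight generators come from relators of `Ly`. -/

set_option autoImplicit false
set_option maxRecDepth 100000

namespace CfsgLib.LyG2

open CfsgLib.CosetEnum Cfsg.Spor

/-- The eight generators inside `Ly`. -/
def gen8 : ℕ → Ly.Gen
  | 0 => .a
  | 1 => .b
  | 2 => .c
  | 3 => .d
  | 4 => .e
  | 5 => .c2
  | 6 => .c3
  | 7 => .c4
  | _ => .a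

/-- A letter in the free group on the generators of `Ly`. -/
def gl (x : ℕ) : FreeGroup Ly.Gen := lv (fun i => FreeGroup.of (gen8 i)) x

/-- Elimination of `c1` and `c5`. -/
def elim : Ly.Gen → FreeGroup Ly.Gen
  | .c1 => Ly.c
  | .c5 => Ly.c⁻¹ * Ly.c2⁻¹ * Ly.c * Ly.c2
  | g => FreeGroup.of g

/-- Relator indices and the words they give. -/
def pairs : List (ℕ × List ℕ) :=
  [(0, [0, 0, 0, 0, 0, 0, 0, 0]),
    (1, [2, 2, 2, 2, 2]),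
    (2, [0, 2, 0, 2, 0, 2, 0, 2]),
    (3, [1, 1, 3, 0, 0, 2]),
    (4, [1, 3, 0, 2, 1, 3, 0, 2, 1, 3, 0, 2]),
    (6, [10, 1, 5, 0]),
    (7, [12, 3, 5, 2]),
    (8, [14, 2, 5, 3]),
    (10, [4, 4, 4, 4, 4]),
    (11, [5, 11, 4, 10, 5, 11, 4, 10, 5, 11, 4, 10, 5, 11, 4, 10, 5, 11, 4, 10]),
    (12, [5, 11, 5, 10, 4, 11, 4, 10]),
    (13, [11, 11, 5, 10, 4, 10, 5, 11, 4, 10]),
    (14, [13, 11, 5, 10, 4, 12, 5, 11, 4, 10]),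
    (15, [15, 11, 5, 10, 4, 14, 5, 11, 4, 10]),
    (16, [5, 13, 4, 12, 5, 11, 4, 10, 5, 11, 4, 10]),
    (17, [5, 15, 4, 14, 11, 5, 10, 4, 11, 5, 10, 4]),
    (18, [11, 13, 10, 12, 5, 11, 4, 10]),
    (19, [11, 15, 10, 14]),
    (20, [13, 15, 12, 14, 5, 11, 4, 10]),
    (21, [1, 10, 0, 4, 4]),
    (22, [1, 12, 0, 15, 5, 12, 12]),
    (23, [1, 14, 0, 15, 5, 15, 12, 10, 5]),
    (24, [1, 5, 11, 4, 10, 0, 11, 5, 10, 4, 11, 5, 10, 4]),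
    (25, [3, 10, 2, 14, 4, 14, 13, 11]),
    (26, [3, 12, 2, 12, 12, 15, 5, 5]),
    (27, [3, 5, 11, 4, 10, 2, 11, 5, 10, 4]),
    (28, [8, 7, 5, 7, 2, 1, 3, 5, 7, 1, 5, 0, 5, 1, 4, 0, 2, 2]),
    (29, [8, 8]),
    (30, [9, 4, 8, 4, 3, 13, 3]),
    (31, [9, 12, 8, 0, 14, 4, 11, 1, 3, 3]),
    (32, [9, 14, 8, 15, 12, 3, 3]),
    (33, [9, 5, 11, 4, 10, 8, 14, 5, 12, 5]),
    (34, [8, 0, 0, 8, 14, 11, 5, 10, 1, 2, 1, 3, 3, 1]),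
    (35, [9, 2, 8, 14, 14, 12, 5]),
    (36, [8, 0, 2, 2, 0, 3, 0, 8, 14, 11, 5, 10, 1, 1]),
    (37, [8, 10, 8, 11, 8, 10, 15, 0, 12, 0, 0, 0]),
    (38, [6, 9, 3, 10, 1, 9, 1, 9, 1, 5, 11, 4, 10, 14, 4, 2, 0, 3, 3, 1]),
    (39, [6, 6, 1, 1, 1, 1]),
    (40, [3, 7, 2, 6]),
    (41, [7, 0, 6, 1, 1, 1]),
    (42, [6, 5, 11, 4, 10, 6, 5, 11, 4, 10, 6, 5, 11, 4, 10, 6, 5, 11, 4, 10, 6, 5, 11, 4, 10]),
    (43, [6, 5, 11, 4, 10, 6, 11, 5, 10, 4, 6, 5, 11, 4, 10, 1, 1])]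

theorem pairs_eq : pairs.map (fun p => prodw gl p.2) =
    pairs.map (fun p => FreeGroup.lift elim (Ly.extra.getD p.1 1)) := by decide +kernel

theorem pairs_cover : rwords = pairs.map Prod.snd ++
    [[10, 10, 10, 10, 10], [12, 12, 12, 12, 12], [14, 14, 14, 14, 14], [4, 7, 7, 4, 7, 7]] := by decide +kernel

theorem pairs_lt : pairs.all (fun p => decide (p.1 < 86)) = true := by decide +kernel

end CfsgLib.LyG2
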